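import Cfsg.Agent.Lib.Fischer.Sel2
import Cfsg.Agent.Lib.Fischer.X21.B
import Cfsg.Agent.Lib.Fischer.S22.D

set_option autoImplicit false
set_option maxRecDepth 100000

namespace Cfsg.Agent.Fi.L22

open Cfsg.Agent.PC

def W_t : TL := (TL.node (TL.node (TL.node (TL.leaf [nat_lit 6, nat_lit 4, nat_lit 7, nat_lit 3, nat_lit 4, nat_lit 12, nat_lit 6, nat_lit 4, nat_lit 3, nat_lit 4, nat_lit 8, nat_lit 12, nat_lit 1, nat_lit 3, nat_lit 10, nat_lit 8]) (TL.leaf [nat_lit 7, nat_lit 6, nat_lit 8, nat_lit 1, nat_lit 6, nat_lit 7])) (TL.leaf [nat_lit 1, nat_lit 12, nat_lit 10, nat_lit 8, nat_lit 10, nat_lit 12])) (TL.node (TL.node (TL.leaf [nat_lit 6, nat_lit 4, nat_lit 11, nat_lit 14, nat_lit 11, nat_lit 3, nat_lit 6, nat_lit 7, nat_lit 3, nat_lit 4]) (TL.leaf [nat_lit 3, nat_lit 12, nat_lit 4, nat_lit 10, nat_lit 7, nat_lit 14, nat_lit 2, nat_lit 1, nat_lit 2])) (TL.leaf [nat_lit 6, nat_lit 7, nat_lit 6, nat_lit 3, nat_lit 12, nat_lit 0, nat_lit 11, nat_lit 10, nat_lit 5, nat_lit 1,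 nat_lit 8])))
noncomputable def W (i : ℕ) : List ℕ := TL.get W_t i
def R_t1 : TL := (TL.node (TL.node (TL.node (TL.node (TL.node (TL.node (TL.leaf []) (TL.leaf [nat_lit 2, nat_lit 2])) (TL.leaf [nat_lit 0])) (TL.node (TL.node (TL.leaf [nat_lit 0]) (TL.leaf [nat_lit 2, nat_lit 2])) (TL.leaf [nat_lit 0, nat_lit 0, nat_lit 2]))) (TL.node (TL.node (TL.node (TL.leaf []) (TL.leaf [])) (TL.leaf [])) (TL.node (TL.node (TL.leaf []) (TL.leaf [])) (TL.leaf [])))) (TL.node (TL.node (TL.node (TL.node (TL.leaf []) (TL.leaf [])) (TL.leaf [])) (TL.node (TL.node (TL.leaf []) (TL.leaf [])) (TL.leaf []))) (TL.node (TL.node (TL.node (TL.leaf []) (TL.leaf [])) (TL.leaf [])) (TL.node (TL.node (TL.leaf []) (TL.leaf [])) (TL.leaf []))))) (TL.node (TL.node (TL.node (TL.node (TL.node (TL.leaf []) (TL.leaf [])) (TL.leaf [])) (TL.node (TL.node (TL.leaf []) (TL.leaf [nat_lit 0, nat_lit 4])) (TL.leaf []))) (TL.node (TL.node (TL.node (TL.leaf []) (TL.leaf [])) (TL.leaf [])) (TL.node (TL.node (TL.leaf [])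 (TL.leaf [])) (TL.leaf [])))) (TL.node (TL.node (TL.node (TL.node (TL.leaf []) (TL.leaf [])) (TL.leaf [])) (TL.node (TL.node (TL.leaf []) (TL.leaf [])) (TL.leaf []))) (TL.node (TL.node (TL.node (TL.leaf []) (TL.leaf [])) (TL.leaf [])) (TL.node (TL.node (TL.leaf []) (TL.leaf [])) (TL.leaf []))))))
def R_t2 : TL := (TL.node (TL.node (TL.node (TL.node (TL.node (TL.node (TL.leaf []) (TL.leaf [nat_lit 0, nat_lit 2, nat_lit 2])) (TL.leaf [])) (TL.node (TL.node (TL.leaf []) (TL.leaf [nat_lit 0, nat_lit 2, nat_lit 2])) (TL.leaf [nat_lit 0, nat_lit 0]))) (TL.node (TL.node (TL.node (TL.leaf []) (TL.leaf [])) (TL.leaf [])) (TL.node (TL.node (TL.leaf []) (TL.leaf [])) (TL.leaf [])))) (TL.node (TL.node (TL.node (TL.node (TL.leaf []) (TL.leaf [])) (TL.leaf [])) (TL.node (TL.node (TL.leaf []) (TL.leaf [])) (TL.leaf []))) (TL.node (TL.node (TL.node (TL.leaf []) (TL.leaf [])) (TL.leaf [])) (TL.node (TL.node (TL.leaf []) (TL.leaf [])) (TL.leaf []))))) (TL.node (TL.node (TL.node (TL.node (TL.node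 (TL.leaf []) (TL.leaf [])) (TL.leaf [])) (TL.node (TL.node (TL.leaf []) (TL.leaf [])) (TL.leaf []))) (TL.node (TL.node (TL.node (TL.leaf []) (TL.leaf [])) (TL.leaf [])) (TL.node (TL.node (TL.leaf []) (TL.leaf [])) (TL.leaf [])))) (TL.node (TL.node (TL.node (TL.node (TL.leaf []) (TL.leaf [])) (TL.leaf [])) (TL.node (TL.node (TL.leaf []) (TL.leaf [])) (TL.leaf []))) (TL.node (TL.node (TL.node (TL.leaf []) (TL.leaf [])) (TL.leaf [])) (TL.node (TL.node (TL.leaf []) (TL.leaf [])) (TL.leaf []))))))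
def R_t3 : TL := (TL.node R_t1 R_t2)
def R_t4 : TL := (TL.node (TL.node (TL.node (TL.node (TL.node (TL.node (TL.leaf []) (TL.leaf [nat_lit 1])) (TL.leaf [nat_lit 1])) (TL.node (TL.node (TL.leaf []) (TL.leaf [nat_lit 0, nat_lit 0, nat_lit 1, nat_lit 2, nat_lit 2])) (TL.leaf [nat_lit 1]))) (TL.node (TL.node (TL.node (TL.leaf []) (TL.leaf [])) (TL.leaf [])) (TL.node (TL.node (TL.leaf []) (TL.leaf [])) (TL.leaf [])))) (TL.node (TL.node (TL.node (TL.node (TL.leaf []) (TL.leaf [])) (TL.leaf [])) (TL.node (TL.node (TL.leaf []) (TL.leaf [])) (TL.leaf []))) (TL.node (TL.node (TL.node (TL.leaf []) (TL.leaf [])) (TL.leaf [])) (TL.node (TL.node (TL.leaf []) (TL.leaf [])) (TL.leaf []))))) (TL.node (TL.node (TL.node (TL.node (TL.node (TL.leaf []) (TL.leaf [])) (TL.leaf [])) (TL.node (TL.node (TL.leaf []) (TL.leaf [nat_lit 0, nat_lit 0, nat_lit 2, nat_lit 2])) (TL.leaf []))) (TL.node (TL.node (TL.node (TL.leaf []) (TL.leaf [])) (TL.leaf [])) (TL.node (TL.node (TL.leaf []) (TL.leaf [])) (TL.leaf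 [])))) (TL.node (TL.node (TL.node (TL.node (TL.leaf []) (TL.leaf [])) (TL.leaf [])) (TL.node (TL.node (TL.leaf []) (TL.leaf [])) (TL.leaf []))) (TL.node (TL.node (TL.node (TL.leaf []) (TL.leaf [])) (TL.leaf [])) (TL.node (TL.node (TL.leaf []) (TL.leaf [])) (TL.leaf []))))))
def R_t5 : TL := (TL.node (TL.node (TL.node (TL.node (TL.node (TL.node (TL.leaf []) (TL.leaf [nat_lit 0, nat_lit 2, nat_lit 2, nat_lit 3])) (TL.leaf [])) (TL.node (TL.node (TL.leaf []) (TL.leaf [nat_lit 1, nat_lit 1, nat_lit 2, nat_lit 2, nat_lit 3])) (TL.leaf [nat_lit 0, nat_lit 2]))) (TL.node (TL.node (TL.node (TL.leaf []) (TL.leaf [])) (TL.leaf [])) (TL.node (TL.node (TL.leaf []) (TL.leaf [])) (TL.leaf [])))) (TL.node (TL.node (TL.node (TL.node (TL.leaf []) (TL.leaf [])) (TL.leaf [])) (TL.node (TL.node (TL.leaf []) (TL.leaf [])) (TL.leaf []))) (TL.node (TL.node (TL.node (TL.leaf []) (TL.leaf [])) (TL.leaf [])) (TL.node (TL.node (TL.leaf []) (TL.leaf [])) (TL.leaf []))))) (TL.node (TL.node (TL.node (TL.node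 (TL.node (TL.leaf []) (TL.leaf [])) (TL.leaf [])) (TL.node (TL.node (TL.leaf []) (TL.leaf [])) (TL.leaf []))) (TL.node (TL.node (TL.node (TL.leaf []) (TL.leaf [])) (TL.leaf [])) (TL.node (TL.node (TL.leaf []) (TL.leaf [])) (TL.leaf [])))) (TL.node (TL.node (TL.node (TL.node (TL.leaf []) (TL.leaf [])) (TL.leaf [])) (TL.node (TL.node (TL.leaf []) (TL.leaf [])) (TL.leaf []))) (TL.node (TL.node (TL.node (TL.leaf []) (TL.leaf [])) (TL.leaf [])) (TL.node (TL.node (TL.leaf []) (TL.leaf [])) (TL.leaf []))))))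
def R_t6 : TL := (TL.node R_t4 R_t5)
def R_t : TL := (TL.node R_t3 R_t6)
noncomputable def R (i : ℕ) : List ℕ := TL.get R_t i
def O_t : TN := (TN.node (TN.leaf (nat_lit 0x840466874400486460000040600000404487876740806047606707448800804784000468470604007048600800407066000440047066470046704670604686780000800860770704046040800048700480087744770662322518046400677400046600060088870667000840000400480884067076020222223223212007006064470607800406074607800000080040606680762202243132352231222776400080078007078447088004007600476480822234102222221533325600006600706807884047004022232223253222222000706064067600722222533233527708404472233322222360004432222212200622512253442223322032222210)) (TN.leaf (nat_lit 0x666800786088006876080070800800800770008000808688788077688680064708074066008760087000408067000670004040077008067700068760804080880600676884707044886706780648700404770600074080040008)))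
noncomputable def O (i : ℕ) : ℕ := get9 O_t (nat_lit 4) (nat_lit 15) i
def rt (i : ℕ) : ℕ := Nat.land (Nat.shiftRight (nat_lit 0x3cdda4d01c2040) (Nat.mul (nat_lit 6) i)) (nat_lit 63)
def U_t : TN := (TN.node (TN.leaf (nat_lit 0x42856565636222826165638362838542234541818582824581838385656483a28283626481436244854161a5616345a1432344a5856181614262814441a265a46565626485858385624263836242846365416344658385a54222836145a1658163a58381a522618485656184628385658185436581614445638542a56583854164426581656341856563858464618181438141658581422264654361416563a283428561654581416184634445458562438563214263854363416361654483618581652563638181626385426361654163836363a3a4446561818564a1248585618363636563a4834585838384656441856242854245842165228165836165636324834523638362858545638341838361638363624365658341a5656384818544838365436321a583a36343638345834223434444616163654482228361454163436485816385836584818583626165654583414163656583616485856365634281856581852163858324a58183638264634563248542834165856245856361622163a18523838561854565636185818381456461656224658365256543814361636385838565846361656525656382a56124646561654361626425654545616525a300456285210064656263254581416181656585836463654561614145232583426183006563414365650023610063438265436342630041618563000000))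 (TN.leaf (nat_lit 0x45a54385438364658162a145636465456263638543624263644382a46163844484624345a5a365838561a161a163454385836245658365438525436584838365218264a3446285216585a5636365638265426244a383a52465436481814383436383a34283834564434181448584636583a3a185248161252363858185638265638563858185426545654322816185654161816565856281638465636342a3a163816565456465a383438461848185816365836142)))
noncomputable def U (i : ℕ) : ℕ := get9 U_t (nat_lit 8) (nat_lit 255) i
def Ru : List (ℕ × ℕ × ℕ × ℕ × ℕ) := [(nat_lit 16, nat_lit 38, nat_lit 4, nat_lit 4, nat_lit 3), (nat_lit 2, nat_lit 3, nat_lit 2, nat_lit 2, nat_lit 3), (nat_lit 7, nat_lit 12, nat_lit 3, nat_lit 3, nat_lit 5), (nat_lit 0, nat_lit 86, nat_lit 0, nat_lit 0, nat_lit 3), (nat_lit 26, nat_lit 129, nat_lit 6, nat_lit 6, nat_lit 3), (nat_lit 26, nat_lit 7, nat_lit 6, nat_lit 3, nat_lit 0), (nat_lit 55, nat_lit 124, nat_lit 7, nat_lit 0, nat_lit 4), (nat_lit 55, nat_lit 62, nat_lit 7, nat_lit 7, nat_lit 0), (nat_lit 7, nat_lit 11,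 nat_lit 3, nat_lit 3, nat_lit 1), (nat_lit 26, nat_lit 25, nat_lit 6, nat_lit 2, nat_lit 7), (nat_lit 7, nat_lit 28, nat_lit 3, nat_lit 0, nat_lit 6), (nat_lit 60, nat_lit 4, nat_lit 8, nat_lit 2, nat_lit 7), (nat_lit 26, nat_lit 58, nat_lit 6, nat_lit 0, nat_lit 2), (nat_lit 60, nat_lit 17, nat_lit 8, nat_lit 4, nat_lit 0), (nat_lit 16, nat_lit 24, nat_lit 4, nat_lit 2, nat_lit 8), (nat_lit 60, nat_lit 118, nat_lit 8, nat_lit 8, nat_lit 3)]
def L : List ℕ := [0, 2, 32, 34, 42, 46, 58, 298, 511]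
noncomputable def f1 : ℕ → ℕ := pcE (fun j => tr X21.T (W j)) X21.Bs (fun _ => 3) R
noncomputable def f2 (c : ℕ) : ℕ := Nat.add (clsE (fun j => tr X21.T (W j)) (nat_lit 6) O rt U c) (Nat.add (ltE (O c) (nat_lit 9)) (Nat.xor (Nat.land (Nat.shiftRight (nat_lit 46) (O c)) (nat_lit 1)) (S22.Sf c)))
def pi58_t : TN := (TN.node (TN.leaf (nat_lit 0x7fdfe9a4f899d0c1deb2a4e9280111a1de89e665735ce0868e990ed095f2a0a95386803e6784220b1107281c7e222023d4f41f4f7755d49c9d174a8b9b9ee7bc8ea785d97c572e8c4a8e44878628a8b94b4ce29cc92b49faa22c92db66d619504ac535342a83294ea5492514b23a53a9985c2b0c6484e0350d91d4fca395d2631455280b32913c47cb24f99063ea787e422accd9a087200fc125060fe6d3ed63234e75c0ef43d12434e542cd89d1743b96b3ad7d3a448131685c8e0a056c41c4798c3e6004b5715e37160389611ecd93c8dd3c0f34051054e713a9321b9a76c53a510d530cbb1713b1a94b16cc16cc686759145d945194c4b9a133ccc4adb0459504a9144bd396fda94d53119c6d1a59a48dab4945a1ac5964d1c6791e2c4ae461194f5334553025d7a7d1545ecec5e5fa5dc9b259e159d84411053f486554982148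340d866049578dfc75884765d85595936d575f1737a90e5c5515bc0e5f8995e0e424d5d7956a208de5615f3c4da5697603cca528d3350bf8d2384ddbe62936938d66f0c831cb8665c6524c0508c2348bd2f8b4521c7700c68ae2989cbc6599246cb02bd1a6edb262daf050056f4a629595670a2285976e89e060074289a3990044d093ea1238e758466f821cc5fc1c8148a225db621023fcf63f8df20587819dc75c7c56e041e4247e420028741cdde1c4230354f4a2164854549d404a6598962d8a1c20a81117c5e7294750d224825672056660540d0170b81313c300596d5883d6156e59a0d115df0e81b1043c60d64128400ec430881e07d9f680530a5ae68c4e0bc5109c28690610cc2c0b4267a4781c0397b4760dc380748c1081a9009d1484d054a9140121801035ce81bc0c02c7502408270062a00400c0200400)) (TN.leaf (nat_lit 0x289841f89565e8faac8f6ae8ee3796db963a476b21c7165aa724c929cb942a18764169a989fe1579a8f7ddf69b27ea51ec8060f74285ad2847ce83a2a88a19e75a5e4a5e909f27d9ea7b7c5e28320a2497580dd354a0e241cf60a91826667f5897ee6a7c1eb5966298261726b08ce31aa6a219a3066c58ac6226b6466aa9d86ccb8caa06de9f8fda2a9a52861c48698ca6819926afab636aada88d4d0aaa3c8e4d19764d972588ba2f191b82ddc12d8632d6261962488e5488221635c3a6ea493e436d2456946ca5a1385094246b3a327011a77782769ac8f7747f22c7a9cddaa35f5)))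
noncomputable def pi58 (i : ℕ) : ℕ := get9 pi58_t (nat_lit 10) (nat_lit 1023) i
def w58 : List ℕ := [nat_lit 10, nat_lit 11, nat_lit 9]
noncomputable def a58 : ℕ → ℕ := autE X21.T X21.P X21.V (nat_lit 693) (nat_lit 16) (nat_lit 4) pi58 pi58
noncomputable def b58 (c : ℕ) : ℕ := (Nat.xor (Nat.land (Nat.shiftRight (nat_lit 58) (O (tr X21.T w58 (pi58 c)))) (nat_lit 1)) (S22.Sf c))
def pi298_t : TN := (TN.node (TN.leaf (nat_lit 0x440eaa4968a017944ab2a1e8c7bd729c1d19ba8d7d60039a739e56c589da9e27778e767966b845dd76ddc781de77de857d5e574e05d97ca3a027ca65991cd739cca962d95cd549634a7a1994d4497cc3491b152d3263d90a9e1f908cd2ae516a54e6f92c541288eaa38e2446ce1e93aa892cca35a2c4999f6819d67a2b8aa298a195659976611e4751c28dba6ee999221762d8aa067541ce25b60842a6821ce15ed065add45fe057e90f3b1d59c48e421f44351143913615ea5f6129b5fc9bc9b9d0993e5e958161765d875cf4561595695b374dc1c95481263545af51db24d6236f625964c553ca449dc23505d4d06e47cb72ccb21553a310b64d93753541891bc33e261b0d1341b0338cc34dae515a171dbf89c6d9006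b4fd9464d924651846d1a28116959145b9f95c1ff5e16f5c4eb3a5834097361d7e81a0d221091f8e3260971107d2489658ced2504c3cd5c3d4f13c87b3bc913e177431fe42c9a23ded2348c40186601d612c4a55d563642436cd835da3721434a4c24b92d4c52b6d92a2b1a42a8a92a0c052139700d2190c62e06a1a43618cb5198bf4f9382e8354f53c2b81801cb12b4cb6d4c9320c71886118146644340cd1727c172749c598e8590ff3f8fa218f7214fb3b88039d74394e41dc761d5036049524c491202503c90119013f0233c07a0347822c8a2244310955088701bd404892f480be2f45c16cb915cc12eca7298a5144505086819c3206458194304ec1614c5217c5e0b44e134f637cde210830fc7f0f0fd1d0730e04011c210f44507c3a0e4410dcbc2d0a22845a0ac560a02e13c2c0c42a0a42f09c26208da1f0710f8200ec1e0741c06c1a164b0278540541404c12044102040e1e40c02c0a024082bc060140400c0200400)) (TN.leaf (nat_lit 0x289841f89565e8faac96aae9423d8eda66e64172e476b237a724c929c596ea18761c63a989fe0c8568f839fda0e7da51d37c1f680685ad2867de88a2a6ca4609625fba5e7aa427b9f27e7ade7799e4621657b2035d5f359df15a68478a6683d8282a6a741cf54a629625d706b09824da76ad5266172515ac62170e436d2ab8d5a7972a06969f8818da9245919aa949b7a992188aafaaa39aa5ad8f1aba8a1b93dc68c22e8be338c632729a26719b6699948d30529335323f952496e1a8a6e9a8da187121a63216a560782d6a786b39a6934129684e67a0984851055e9539c9d2a2dee)))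
noncomputable def pi298 (i : ℕ) : ℕ := get9 pi298_t (nat_lit 10) (nat_lit 1023) i
def w298 : List ℕ := [nat_lit 14, nat_lit 13, nat_lit 12, nat_lit 0]
noncomputable def a298 : ℕ → ℕ := autE X21.T X21.P X21.V (nat_lit 693) (nat_lit 16) (nat_lit 4) pi298 pi298
noncomputable def b298 (c : ℕ) : ℕ := (Nat.xor (Nat.land (Nat.shiftRight (nat_lit 298) (O (tr X21.T w298 (pi298 c)))) (nat_lit 1)) (S22.Sf c))

end Cfsg.Agent.Fi.L22
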