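import Cfsg.Agent.Lib.Fischer.L22.D

set_option autoImplicit false
set_option maxRecDepth 100000

namespace Cfsg.Agent.Fi.L22

open Cfsg.Agent.PC

theorem p0 : Nat.beq (rng f1 (nat_lit 0) (nat_lit 64)) (nat_lit 0) = true := by decide +kernel
theorem p64 : Nat.beq (rng f1 (nat_lit 64) (nat_lit 64)) (nat_lit 0) = true := by decide +kernel
theorem p128 : Nat.beq (rng f1 (nat_lit 128) (nat_lit 64)) (nat_lit 0) = true := by decide +kernel
theorem c0 : Nat.beq (rng f2 (nat_lit 0) (nat_lit 693)) (nat_lit 0) = true := by decide +kernel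
theorem a58x0 : Nat.beq (rng a58 (nat_lit 0) (nat_lit 300)) (nat_lit 0) = true := by decide +kernel
theorem a58x300 : Nat.beq (rng a58 (nat_lit 300) (nat_lit 300)) (nat_lit 0) = true := by decide +kernel
theorem a58x600 : Nat.beq (rng a58 (nat_lit 600) (nat_lit 93)) (nat_lit 0) = true := by decide +kernel
theorem b58x0 : Nat.beq (rng b58 (nat_lit 0) (nat_lit 693)) (nat_lit 0) = true := by decide +kernel
theorem a298x0 : Nat.beq (rng a298 (nat_lit 0) (nat_lit 300)) (nat_lit 0) = true := by decide +kernel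
theorem a298x300 : Nat.beq (rng a298 (nat_lit 300) (nat_lit 300)) (nat_lit 0) = true := by decide +kernel
theorem a298x600 : Nat.beq (rng a298 (nat_lit 600) (nat_lit 93)) (nat_lit 0) = true := by decide +kernel
theorem b298x0 : Nat.beq (rng b298 (nat_lit 0) (nat_lit 693)) (nat_lit 0) = true := by decide +kernel

end Cfsg.Agent.Fi.L22
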