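import Cfsg.Agent.Lib.Fischer.L22.R0
import Cfsg.Agent.Lib.Fischer.X21.Tr

set_option autoImplicit false
set_option maxRecDepth 100000

namespace Cfsg.Agent.Fi.L22

open Cfsg.Agent.PC

theorem hf1 : ∀ i < 192, f1 i = 0 := by
  have h := zero_lt_zero f1
  have h := zero_lt_add (a := (nat_lit 0)) (n := (nat_lit 64)) (b := (nat_lit 64)) h p0 rfl
  have h := zero_lt_add (a := (nat_lit 64)) (n := (nat_lit 64)) (b := (nat_lit 128)) h p64 rfl
  have h := zero_lt_add (a := (nat_lit 128)) (n := (nat_lit 64)) (b := (nat_lit 192)) h p128 rfl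
  exact h
theorem hf2 : ∀ i < 693, f2 i = 0 := by
  have h := zero_lt_zero f2
  have h := zero_lt_add (a := (nat_lit 0)) (n := (nat_lit 693)) (b := (nat_lit 693)) h c0 rfl
  exact h
theorem ha58 : ∀ i < 693, a58 i = 0 := by
  have h := zero_lt_zero a58
  have h := zero_lt_add (a := (nat_lit 0)) (n := (nat_lit 300)) (b := (nat_lit 300)) h a58x0 rfl
  have h := zero_lt_add (a := (nat_lit 300)) (n := (nat_lit 300)) (b := (nat_lit 600)) h a58x300 rfl
  have h := zero_lt_add (a := (nat_lit 600)) (n := (nat_lit 93)) (b := (nat_lit 693)) h a58x600 rfl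
  exact h
theorem hb58 : ∀ i < 693, b58 i = 0 := by
  have h := zero_lt_zero b58
  have h := zero_lt_add (a := (nat_lit 0)) (n := (nat_lit 693)) (b := (nat_lit 693)) h b58x0 rfl
  exact h
theorem ha298 : ∀ i < 693, a298 i = 0 := by
  have h := zero_lt_zero a298
  have h := zero_lt_add (a := (nat_lit 0)) (n := (nat_lit 300)) (b := (nat_lit 300)) h a298x0 rfl
  have h := zero_lt_add (a := (nat_lit 300)) (n := (nat_lit 300)) (b := (nat_lit 600)) h a298x300 rfl
  have h := zero_lt_add (a := (nat_lit 600)) (n := (nat_lit 93)) (b := (nat_lit 693)) h a298x600 rfl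
  exact h
theorem hb298 : ∀ i < 693, b298 i = 0 := by
  have h := zero_lt_zero b298
  have h := zero_lt_add (a := (nat_lit 0)) (n := (nat_lit 693)) (b := (nat_lit 693)) h b298x0 rfl
  exact h
theorem hW : lin (fun j => lettE 16 (W j)) (nat_lit 0) 6 = 0 := by decide +kernel
theorem sel {K : Type*} [Group K] [Finite K] {D : Set K} {pt : ℕ → K} (F : FD D X21.T X21.P 693 16 pt)
    (hK : Nat.card K = 9196830720) {S : Set K} (hS : S ⊆ D) (hcl : ∀ x ∈ S, ∀ y ∈ S, x * y * x⁻¹ ∈ S)
    (h1 : 3 ^ 6 * 7 ∣ Nat.card (↥(Subgroup.closure S) ⧸ Subgroup.center ↥(Subgroup.closure S)))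
    (h2 : ¬ 11 ∣ Nat.card (↥(Subgroup.closure S) ⧸ Subgroup.center ↥(Subgroup.closure S))) :
    ∃ qt : ℕ → K, FD D X21.T X21.P 693 16 qt ∧ S = qt '' {i | i < 693 ∧ S22.Sf i = 1} := by
  have h3 := h1.trans (Subgroup.card_quotient_dvd_card _)
  have hO : ∀ c < 693, ltE (O c) 9 = 0 := fun c hc => (add_eq_zero' (add_eq_zero' (hf2 c hc)).2).1
  have hc : ∀ c < 693, clsE (fun j => tr X21.T (W j)) 6 O rt U c = 0 := fun c hc => (add_eq_zero' (hf2 c hc)).1
  obtain ⟨qt, F', M, hM, h4⟩ := sel_main F X21.dsc (X21.base F) X21.Bs_lt hcl (a := 6) (by rw [hK]; norm_num)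
    ((Dvd.intro _ rfl).trans h3) hW (by norm_num) hf1 hc hO (Ru := Ru) (L := L) (by decide +kernel) (by decide +kernel)
  have h5 : 7 ∣ Nat.card (Subgroup.closure S) := (Dvd.intro_left _ rfl).trans h3
  have : Fact (Nat.Prime 7) := ⟨by decide⟩
  have h6 := sel_small F' hS hcl h4 h5 fun x hx e => by
    have := card_cen F.tt (X21.trans F) hx
    rw [F.ncard, hK] at this
    omega
  simp only [L, List.mem_cons, List.not_mem_nil, or_false] at hM
  rcases hM with rfl | rfl | rfl | rfl | rfl | rfl | rfl | rfl | rfl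
  · rw [sel_empty F' hS h4] at h5; omega
  · exact absurd h6 (by decide +kernel)
  · exact absurd h6 (by decide +kernel)
  · exact absurd h6 (by decide +kernel)
  · exact absurd h6 (by decide +kernel)
  · exact ⟨qt, F', sel_fin (ρ := fun i => i) F' hS (fun _ h => h) h4 fun c hc => (add_eq_zero' (add_eq_zero' (hf2 c hc)).2).2⟩
  · obtain ⟨F1, t1⟩ := F'.word (w := w58) (by decide +kernel)
    have F2 := F1.auto X21.dsc ha58
    exact ⟨_, F2, sel_fin (ρ := fun i => tr X21.T w58 (pi58 i)) F2 hS (fun i hi => t1 _ (auto_lt ha58 i hi)) h4 hb58⟩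
  · obtain ⟨F1, t1⟩ := F'.word (w := w298) (by decide +kernel)
    have F2 := F1.auto X21.dsc ha298
    exact ⟨_, F2, sel_fin (ρ := fun i => tr X21.T w298 (pi298 i)) F2 hS (fun i hi => t1 _ (auto_lt ha298 i hi)) h4 hb298⟩
  · rw [sel_all (n := 9) F' h4 hO, hK] at h2; omega

end Cfsg.Agent.Fi.L22
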